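import Groth.Agent.BiextDivLib.Main
import Mathlib.CategoryTheory.Sites.SheafOfTypes

/-!
# Unit sections, opposites and fibre groups of a biextension
-/

set_option autoImplicit false
set_option backward.isDefEq.respectTransparency false

universe u

open CategoryTheory Opposite

noncomputable section

namespace Groth.Agent.BiextSplitLib

open BiextDivLib

variable {C : Type (u + 1)} [Category.{u} C] {J : GrothendieckTopology C}

theorem map_map (F : Cᵒᵖ ⥤ Type (u + 1)) {T U V : C} (f : U ⟶ T) (g : V ⟶ U) (x : F.obj (op T)) :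
    F.map g.op (F.map f.op x) = F.map (g ≫ f).op x := by
  rw [← ConcreteCategory.comp_apply, ← F.map_comp, ← op_comp]

theorem amap_map (F : Cᵒᵖ ⥤ AddCommGrpCat.{u + 1}) {T U V : C} (f : U ⟶ T) (g : V ⟶ U) (x : F.obj (op T)) :
    F.map g.op (F.map f.op x) = F.map (g ≫ f).op x := by
  rw [← ConcreteCategory.comp_apply, ← F.map_comp, ← op_comp]

theorem map_id_app (F : Cᵒᵖ ⥤ Type (u + 1)) {T : C} (x : F.obj (op T)) : F.map (𝟙 T).op x = x := by
  rw [op_id, F.map_id, ConcreteCategory.id_apply]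

theorem amap_id_app (F : Cᵒᵖ ⥤ AddCommGrpCat.{u + 1}) {T : C} (x : F.obj (op T)) : F.map (𝟙 T).op x = x := by
  rw [op_id, F.map_id, ConcreteCategory.id_apply]

/-- Sections of a sheaf of sets agree if they agree on a covering sieve. -/
theorem ext_loc (F : Sheaf J (Type (u + 1))) {T : C} {x y : F.obj.obj (op T)} {R : Sieve T} (hR : R ∈ J T)
    (h : ∀ ⦃U : C⦄ (f : U ⟶ T), R f → F.obj.map f.op x = F.obj.map f.op y) : x = y :=
  (((isSheaf_iff_isSheaf_of_type J _).1 F.property).isSeparated R hR).ext h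

/-- Sections of an abelian sheaf agree if they agree on a covering sieve. -/
theorem aext_loc (F : Sheaf J AddCommGrpCat.{u + 1}) {T : C} {x y : F.obj.obj (op T)} {R : Sieve T} (hR : R ∈ J T)
    (h : ∀ ⦃U : C⦄ (f : U ⟶ T), R f → F.obj.map f.op x = F.obj.map f.op y) : x = y :=
  ext_loc ((sheafCompose J (forget AddCommGrpCat.{u + 1})).obj F) hR h

/-- Gluing a locally existing, unique, restriction-stable section. -/
theorem exists_glue (F : Sheaf J (Type (u + 1))) (T : C) (Pd : ∀ ⦃U : C⦄, (U ⟶ T) → F.obj.obj (op U) → Prop)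
    (hmap : ∀ ⦃U V : C⦄ (f : U ⟶ T) (g : V ⟶ U) x, Pd f x → Pd (g ≫ f) (F.obj.map g.op x))
    (huniq : ∀ ⦃U : C⦄ (f : U ⟶ T) x y, Pd f x → Pd f y → x = y)
    {R : Sieve T} (hR : R ∈ J T) (hloc : ∀ ⦃U : C⦄ (f : U ⟶ T), R f → ∃ x, Pd f x) :
    ∃ x : F.obj.obj (op T), ∀ ⦃U : C⦄ (f : U ⟶ T) y, Pd f y → F.obj.map f.op x = y := by
  choose xs hxs using hloc
  let fam : Presieve.FamilyOfElements F.obj R.arrows := fun U f hf => xs f hf
  have hc : fam.Compatible := by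
    intro Y₁ Y₂ Z g₁ g₂ f₁ f₂ hf₁ hf₂ hcomm
    refine huniq (g₁ ≫ f₁) _ _ (hmap _ _ _ (hxs f₁ hf₁)) ?_
    rw [hcomm]
    exact hmap _ _ _ (hxs f₂ hf₂)
  obtain ⟨x, hx, -⟩ := (isSheaf_iff_isSheaf_of_type J _).1 F.property R hR fam hc
  refine ⟨x, fun U f y hy => ext_loc F (J.pullback_stable f hR) fun V g hg => ?_⟩
  rw [map_map]
  exact (hx _ hg).trans (huniq _ _ _ (hxs _ hg) (hmap _ _ _ hy))

/-- Gluing in an abelian sheaf. -/
theorem aexists_glue (F : Sheaf J AddCommGrpCat.{u + 1}) (T : C) (Pd : ∀ ⦃U : C⦄, (U ⟶ T) → F.obj.obj (op U) → Prop)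
    (hmap : ∀ ⦃U V : C⦄ (f : U ⟶ T) (g : V ⟶ U) x, Pd f x → Pd (g ≫ f) (F.obj.map g.op x))
    (huniq : ∀ ⦃U : C⦄ (f : U ⟶ T) x y, Pd f x → Pd f y → x = y)
    {R : Sieve T} (hR : R ∈ J T) (hloc : ∀ ⦃U : C⦄ (f : U ⟶ T), R f → ∃ x, Pd f x) :
    ∃ x : F.obj.obj (op T), ∀ ⦃U : C⦄ (f : U ⟶ T) y, Pd f y → F.obj.map f.op x = y :=
  exists_glue ((sheafCompose J (forget AddCommGrpCat.{u + 1})).obj F) T Pd hmap huniq hR hloc

variable {P Q G : Sheaf J AddCommGrpCat.{u + 1}}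

/-- The biextension with the roles of the two variables exchanged. -/
def swap (B : Biext J P Q G) : Biext J Q P G where
  E := B.E
  πP := B.πQ
  πQ := B.πP
  πP_map := B.πQ_map
  πQ_map := B.πP_map
  act := B.act
  act_map := B.act_map
  πP_act := B.πQ_act
  πQ_act := B.πP_act
  zero_act := B.zero_act
  add_act := B.add_act
  existsUnique_act T x y h h' := B.existsUnique_act T x y h' h
  locallySurjective T q p := by
    obtain ⟨R, hR, h⟩ := B.locallySurjective T p q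
    exact ⟨R, hR, fun T' f hf => (h f hf).imp fun z hz => hz.symm⟩
  add₁ := B.add₂
  πP_add₁ := B.πQ_add₂
  πQ_add₁ := B.πP_add₂
  add₁_map := B.add₂_map
  add₁_comm := B.add₂_comm
  add₁_assoc := B.add₂_assoc
  add₁_act := B.add₂_act
  add₂ := B.add₁
  πP_add₂ := B.πQ_add₁
  πQ_add₂ := B.πP_add₁
  add₂_map := B.add₁_map
  add₂_comm := B.add₁_comm
  add₂_assoc := B.add₁_assoc
  add₂_act := B.add₁_act
  compat T x y z t hxy hzt hxz hyt := (B.compat T x z y t hxz hyt hxy hzt).symm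

variable (B : Biext J P Q G)

theorem πP_idem {T : C} {e : B.E.obj.obj (op T)} (he : B.add₁ T e e rfl = e) : B.πP T e = 0 := by
  have := B.πP_add₁ T e e rfl
  rw [he] at this
  simpa using this

theorem idem_unique {T : C} {e e' : B.E.obj.obj (op T)} (h : B.πQ T e = B.πQ T e') (he : B.add₁ T e e rfl = e)
    (he' : B.add₁ T e' e' rfl = e') : e = e' :=
  (add₁_idem B T e e' h he').symm.trans ((B.add₁_comm T e e' h).trans (add₁_idem B T e' e h.symm he))

theorem idem_map {T U : C} (f : U ⟶ T) {e : B.E.obj.obj (op T)} (he : B.add₁ T e e rfl = e) :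
    B.add₁ U (B.E.obj.map f.op e) (B.E.obj.map f.op e) rfl = B.E.obj.map f.op e := by
  rw [← B.add₁_map f e e rfl, he]

theorem exists_idem (T : C) (q : Q.obj.obj (op T)) :
    ∃ e : B.E.obj.obj (op T), B.πQ T e = q ∧ B.add₁ T e e rfl = e := by
  obtain ⟨R, hR, hloc⟩ := B.locallySurjective T 0 q
  let Pd : ∀ ⦃U : C⦄, (U ⟶ T) → B.E.obj.obj (op U) → Prop := fun U f e =>
    B.πQ U e = Q.obj.map f.op q ∧ B.add₁ U e e rfl = e
  have hl : ∀ ⦃U : C⦄ (f : U ⟶ T), R f → ∃ x, Pd f x := by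
    intro U f hf
    obtain ⟨x, hxp, hxq⟩ := hloc f hf
    obtain ⟨k, hk, -⟩ := B.existsUnique_act U x (B.add₁ U x x rfl)
      (by rw [B.πP_add₁, hxp, map_zero, add_zero]) (B.πQ_add₁ U x x rfl).symm
    refine ⟨B.act U (-k) x, (B.πQ_act U _ x).trans hxq, ?_⟩
    rw [act_left₁ B U (-k) x (B.act U (-k) x) rfl, act_right₁ B U (-k) x x (B.πQ_act U _ x).symm, ← hk,
      ← B.add_act, ← B.add_act]
    congr 1
    abel
  obtain ⟨e, he⟩ := exists_glue B.E T Pd (fun U V f g x hx => ⟨by rw [B.πQ_map, hx.1, amap_map], idem_map B g hx.2⟩)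
    (fun U f x y hx hy => idem_unique B (hx.1.trans hy.1.symm) hx.2 hy.2) hR hl
  refine ⟨e, aext_loc Q hR fun U f hf => ?_, ext_loc B.E hR fun U f hf => ?_⟩
  · obtain ⟨y, hy⟩ := hl f hf
    rw [← B.πQ_map, he f y hy, hy.1]
  · obtain ⟨y, hy⟩ := hl f hf
    rw [B.add₁_map]
    exact (BiextDivLib.add₁_congr B (he f y hy) (he f y hy) rfl).trans (hy.2.trans (he f y hy).symm)

/-- The unit of the first law above `q`. -/
def zero₁ (T : C) (q : Q.obj.obj (op T)) : B.E.obj.obj (op T) := (exists_idem B T q).choose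

theorem πQ_zero₁ (T : C) (q : Q.obj.obj (op T)) : B.πQ T (zero₁ B T q) = q := (exists_idem B T q).choose_spec.1

theorem zero₁_idem (T : C) (q : Q.obj.obj (op T)) : B.add₁ T (zero₁ B T q) (zero₁ B T q) rfl = zero₁ B T q :=
  (exists_idem B T q).choose_spec.2

theorem πP_zero₁ (T : C) (q : Q.obj.obj (op T)) : B.πP T (zero₁ B T q) = 0 := πP_idem B (zero₁_idem B T q)

theorem zero₁_map {T U : C} (f : U ⟶ T) (q : Q.obj.obj (op T)) :
    B.E.obj.map f.op (zero₁ B T q) = zero₁ B U (Q.obj.map f.op q) :=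
  idem_unique B (by rw [B.πQ_map, πQ_zero₁, πQ_zero₁]) (idem_map B f (zero₁_idem B T q)) (zero₁_idem B U _)

theorem add₁_zero₁ (T : C) (x : B.E.obj.obj (op T)) (q : Q.obj.obj (op T)) (h : B.πQ T x = B.πQ T (zero₁ B T q)) :
    B.add₁ T x (zero₁ B T q) h = x :=
  add₁_idem B T x _ h (zero₁_idem B T q)

theorem zero₁_add₂ (T : C) (q q' : Q.obj.obj (op T)) (h : B.πP T (zero₁ B T q) = B.πP T (zero₁ B T q')) :
    B.add₂ T (zero₁ B T q) (zero₁ B T q') h = zero₁ B T (q + q') := by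
  refine idem_unique B (by rw [B.πQ_add₂, πQ_zero₁, πQ_zero₁, πQ_zero₁]) ?_ (zero₁_idem B T _)
  refine (B.compat T _ _ _ _ h h rfl rfl).trans ?_
  exact BiextDivLib.add₂_congr B (zero₁_idem B T q) (zero₁_idem B T q') _

theorem neg_unique {T : C} {q : Q.obj.obj (op T)} {x y y' : B.E.obj.obj (op T)} (hx : B.πQ T x = q)
    (hy : B.πQ T y = q) (hy' : B.πQ T y' = q) (h : B.add₁ T x y (hx.trans hy.symm) = zero₁ B T q)
    (h' : B.add₁ T x y' (hx.trans hy'.symm) = zero₁ B T q) : y = y' := by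
  calc y = B.add₁ T y (zero₁ B T q) (hy.trans (πQ_zero₁ B T q).symm) := (add₁_zero₁ B T y q _).symm
    _ = B.add₁ T y (B.add₁ T x y' (hx.trans hy'.symm)) (hy.trans (((B.πQ_add₁ T x y' _)).trans hx).symm) :=
        BiextDivLib.add₁_congr B rfl h'.symm _
    _ = B.add₁ T (B.add₁ T y x (hy.trans hx.symm)) y' (((B.πQ_add₁ T y x _)).trans (hy.trans hy'.symm)) :=
        (B.add₁_assoc T y x y' _ _).symm
    _ = B.add₁ T (zero₁ B T q) y' ((πQ_zero₁ B T q).trans hy'.symm) :=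
        BiextDivLib.add₁_congr B ((B.add₁_comm T y x _).trans h) rfl _
    _ = y' := (B.add₁_comm T _ _ _).trans (add₁_zero₁ B T y' q _)

theorem exists_neg (T : C) (x : B.E.obj.obj (op T)) :
    ∃ y : B.E.obj.obj (op T), ∃ h : B.πQ T x = B.πQ T y, B.add₁ T x y h = zero₁ B T (B.πQ T x) := by
  obtain ⟨R, hR, hloc⟩ := B.locallySurjective T (-B.πP T x) (B.πQ T x)
  let Pd : ∀ ⦃U : C⦄, (U ⟶ T) → B.E.obj.obj (op U) → Prop := fun U f y =>
    ∃ h : B.πQ U (B.E.obj.map f.op x) = B.πQ U y,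
      B.add₁ U (B.E.obj.map f.op x) y h = zero₁ B U (B.πQ U (B.E.obj.map f.op x))
  have hl : ∀ ⦃U : C⦄ (f : U ⟶ T), R f → ∃ y, Pd f y := by
    intro U f hf
    obtain ⟨y, hyp, hyq⟩ := hloc f hf
    have h : B.πQ U (B.E.obj.map f.op x) = B.πQ U y := by rw [B.πQ_map, hyq]
    obtain ⟨k, hk, -⟩ := B.existsUnique_act U (B.add₁ U (B.E.obj.map f.op x) y h)
      (zero₁ B U (B.πQ U (B.E.obj.map f.op x)))
      (by rw [B.πP_add₁, B.πP_map, hyp, πP_zero₁, map_neg, add_neg_cancel]) (by rw [B.πQ_add₁, πQ_zero₁])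
    refine ⟨B.act U k y, h.trans (B.πQ_act U k y).symm, ?_⟩
    rw [act_right₁ B U k _ y (h.trans (B.πQ_act U k y).symm)]
    exact hk
  obtain ⟨y, hy⟩ := exists_glue B.E T Pd
    (fun U V f g z ⟨h, hz⟩ => by
      refine ⟨by rw [← map_map, B.πQ_map, h, ← B.πQ_map], ?_⟩
      rw [BiextDivLib.add₁_congr B (map_map B.E.obj f g x).symm rfl, ← B.add₁_map g _ _ h, hz, zero₁_map,
        ← B.πQ_map, map_map])
    (fun U f z z' ⟨h, hz⟩ ⟨h', hz'⟩ => neg_unique B rfl h.symm h'.symm hz hz') hR hl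
  have hxy : B.πQ T x = B.πQ T y := aext_loc Q hR fun U f hf => by
    obtain ⟨z, h, hz⟩ := hl f hf
    rw [← B.πQ_map, ← B.πQ_map, h, hy f z ⟨h, hz⟩]
  refine ⟨y, hxy, ext_loc B.E hR fun U f hf => ?_⟩
  obtain ⟨z, h, hz⟩ := hl f hf
  rw [B.add₁_map, zero₁_map, BiextDivLib.add₁_congr B rfl (hy f z ⟨h, hz⟩), hz, B.πQ_map]

/-- The fibre of `E → Q` above `q`, a commutative group for the first law. -/
def Fib₁ (T : C) (q : Q.obj.obj (op T)) : Type (u + 1) := { e : B.E.obj.obj (op T) // B.πQ T e = q }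

instance (T : C) (q : Q.obj.obj (op T)) : Add (Fib₁ B T q) :=
  ⟨fun x y => ⟨B.add₁ T x.1 y.1 (x.2.trans y.2.symm), (B.πQ_add₁ T _ _ _).trans x.2⟩⟩

instance (T : C) (q : Q.obj.obj (op T)) : Zero (Fib₁ B T q) := ⟨⟨zero₁ B T q, πQ_zero₁ B T q⟩⟩

instance (T : C) (q : Q.obj.obj (op T)) : Neg (Fib₁ B T q) :=
  ⟨fun x => ⟨(exists_neg B T x.1).choose, ((exists_neg B T x.1).choose_spec.fst.symm).trans x.2⟩⟩

instance instAddCommGroupFib (T : C) (q : Q.obj.obj (op T)) : AddCommGroup (Fib₁ B T q) where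
  add_assoc x y z := Subtype.ext (B.add₁_assoc T x.1 y.1 z.1 _ _)
  zero_add x := Subtype.ext ((B.add₁_comm T _ _ _).trans (add₁_zero₁ B T x.1 q _))
  add_zero x := Subtype.ext (add₁_zero₁ B T x.1 q _)
  add_comm x y := Subtype.ext (B.add₁_comm T x.1 y.1 _)
  nsmul := nsmulRec
  zsmul := zsmulRec
  neg_add_cancel x := Subtype.ext ((B.add₁_comm T _ _ _).trans
    ((exists_neg B T x.1).choose_spec.snd.trans (congrArg (zero₁ B T) x.2)))

theorem Fib₁.add_val {T : C} {q : Q.obj.obj (op T)} (x y : Fib₁ B T q) :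
    (x + y).1 = B.add₁ T x.1 y.1 (x.2.trans y.2.symm) := rfl

theorem Fib₁.zero_val {T : C} {q : Q.obj.obj (op T)} : (0 : Fib₁ B T q).1 = zero₁ B T q := rfl

/-- Restriction of the fibre groups. -/
def fibMap {T U : C} (f : U ⟶ T) (q : Q.obj.obj (op T)) (q' : Q.obj.obj (op U)) (hq : Q.obj.map f.op q = q') :
    Fib₁ B T q →+ Fib₁ B U q' :=
  AddMonoidHom.mk' (fun x => ⟨B.E.obj.map f.op x.1, by rw [B.πQ_map, x.2, hq]⟩) fun x y =>
    Subtype.ext (B.add₁_map f x.1 y.1 _)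

@[simp]
theorem fibMap_val {T U : C} (f : U ⟶ T) (q : Q.obj.obj (op T)) (q' : Q.obj.obj (op U)) (hq : Q.obj.map f.op q = q')
    (x : Fib₁ B T q) : (fibMap B f q q' hq x).1 = B.E.obj.map f.op x.1 := rfl

/-- The inclusion of `G` in a fibre group. -/
def fibInc (T : C) (q : Q.obj.obj (op T)) : G.obj.obj (op T) →+ Fib₁ B T q :=
  AddMonoidHom.mk' (fun g => ⟨B.act T g (zero₁ B T q), (B.πQ_act T g _).trans (πQ_zero₁ B T q)⟩) fun g g' => by
    refine Subtype.ext ?_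
    show B.act T (g + g') (zero₁ B T q) = B.add₁ T _ _ _
    rw [act_left₁ B T g _ _ (by rw [B.πQ_act, B.πQ_act]), act_right₁ B T g' _ _ (B.πQ_act T g' _).symm, zero₁_idem,
      ← B.add_act]

@[simp]
theorem fibInc_val (T : C) (q : Q.obj.obj (op T)) (g : G.obj.obj (op T)) :
    (fibInc B T q g).1 = B.act T g (zero₁ B T q) := rfl

theorem fibInc_add (T : C) (q : Q.obj.obj (op T)) (g : G.obj.obj (op T)) (x : Fib₁ B T q) :
    (fibInc B T q g + x).1 = B.act T g x.1 := by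
  show B.add₁ T (B.act T g (zero₁ B T q)) x.1 _ = _
  rw [act_left₁ B T g _ _ (by rw [B.πQ_act, πQ_zero₁, x.2]), B.add₁_comm, add₁_zero₁]

theorem fibInc_injective (T : C) (q : Q.obj.obj (op T)) : Function.Injective (fibInc B T q) :=
  (injective_iff_map_eq_zero _).2 fun g hg =>
    eq_zero_of_act B T g (zero₁ B T q) (congrArg Subtype.val hg)

end Groth.Agent.BiextSplitLib
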