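import Groth.Agent.BiextSplitLib.Spl
import Groth.Agent.GmExtLib.ExtShZero
import Groth.Agent.RDerLib.Delta
import Mathlib.Algebra.Homology.ShortComplex.ExactFunctor

/-!
# Triviality of biextensions from the vanishing of two obstruction groups
-/

set_option autoImplicit false
set_option linter.style.haveILetI false
set_option backward.isDefEq.respectTransparency false
set_option backward.isDefEq.respectTransparency.types false

universe u

open CategoryTheory CategoryTheory.Limits AlgebraicGeometry Opposite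
open scoped MonObj

noncomputable section

namespace Groth.Agent.BiextSplitLib

variable {S : Scheme.{u}}

local notation "Jf" => QuotSh.J Scheme.fppfPrecoverage S

theorem nonempty_iso_one {C D : Type*} [Category C] [Abelian C] [HasInjectiveResolutions C] [Category D] [Abelian D]
    (F : C ⥤ D) [F.Additive] [PreservesFiniteLimits F] {T : ShortComplex C} (hT : T.ShortExact)
    (h₁ : IsZero ((F.rightDerived 1).obj T.X₂)) :
    Nonempty (cokernel (F.map T.g) ≅ (F.rightDerived 1).obj T.X₁) := by
  let Δ := RDerLib.derivedLES F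
  haveI : Epi (Δ.δ T hT 0 1 rfl) := (Δ.exact₁ T hT 0 1 rfl).epi_f (h₁.eq_of_tgt _ _)
  haveI : Epi (ShortComplex.mk _ _ (Δ.comp_δ T hT 0 1 rfl)).g := ‹Epi (Δ.δ T hT 0 1 rfl)›
  exact ⟨cokernel.mapIso (F.map T.g) ((F.rightDerived 0).map T.g) (F.rightDerivedZeroIsoSelf.app _).symm
      (F.rightDerivedZeroIsoSelf.app _).symm (F.rightDerivedZeroIsoSelf.inv.naturality T.g) ≪≫
    (cokernelIsCokernel _).coconePointUniqueUpToIso (Δ.exact₃ T hT 0 1 rfl).gIsCokernel⟩

theorem hom_to_cokernel_eq_zero {C D : Type*} [Category C] [Abelian C] [EnoughInjectives C] [Category D] [Abelian D]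
    (F : C ⥤ D) [F.Additive] [PreservesFiniteLimits F] (X : C) {P : D}
    (h : ∀ φ : P ⟶ (F.rightDerived 1).obj X, φ = 0) (ψ : P ⟶ cokernel (F.map (cokernel.π (Injective.ι X)))) :
    ψ = 0 := by
  let sc : ShortComplex C := ShortComplex.mk (Injective.ι X) (cokernel.π _) (cokernel.condition (Injective.ι X))
  have hsc : sc.ShortExact :=
    ShortComplex.ShortExact.mk' (ShortComplex.exact_cokernel _) (inferInstanceAs (Mono (Injective.ι X)))
      (inferInstanceAs (Epi (cokernel.π (Injective.ι X))))
  obtain ⟨e⟩ := nonempty_iso_one F hsc (F.isZero_rightDerived_obj_injective_succ 0 (Injective.under X))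
  exact (cancel_mono e.hom).1 ((h (ψ ≫ e.hom)).trans zero_comp.symm)

theorem preservesFiniteLimits_homShFunctor (F : BigSite.Ab Scheme.fppfPrecoverage S) :
    PreservesFiniteLimits (HomSh.homShFunctor Jf F) := by
  refine (Functor.preservesFiniteLimits_iff_forall_exact_map_and_mono _).2 fun T hT => ?_
  haveI := hT.mono_f
  exact ⟨GmExtLib.exact_homShMap F T.f T.g T.zero hT.exact _, GmExtLib.mono_homShMap F T.f⟩

/-- Triviality when the first sheaf is represented. -/
theorem isTrivial_pts (A : Over S) [GrpObj A] [IsCommMonObj A] (Q G : BigSite.Ab Scheme.fppfPrecoverage S)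
    (h₁ : ∀ e : Abelian.Ext (CGrpSh.pts Scheme.fppfPrecoverage A) (HomSh.homSh Jf Q G) 1, e = 0)
    (h₂ : ∀ φ : CGrpSh.pts Scheme.fppfPrecoverage A ⟶ (HomSh.extSh Jf Q 1).obj G, φ = 0)
    (B : Biext Jf (CGrpSh.pts Scheme.fppfPrecoverage A) Q G) : Biext.IsTrivial Jf B := by
  haveI := preservesFiniteLimits_homShFunctor Q
  let I := Injective.under G
  let i : G ⟶ I := Injective.ι G
  let g : I ⟶ cokernel i := cokernel.π i
  let sc : ShortComplex (BigSite.Ab Scheme.fppfPrecoverage S) := ShortComplex.mk i g (cokernel.condition i)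
  have hsc : sc.ShortExact :=
    ShortComplex.ShortExact.mk' (ShortComplex.exact_cokernel i) (inferInstanceAs (Mono i)) (inferInstanceAs (Epi g))
  have hE : ∀ φ : CGrpSh.pts Scheme.fppfPrecoverage A ⟶ ((HomSh.homShFunctor Jf Q).rightDerived 1).obj G, φ = 0 := by
    rw [← HomSh.extSh_def]
    exact h₂
  have hC := hom_to_cokernel_eq_zero (HomSh.homShFunctor Jf Q) G hE
  obtain ⟨R⟩ := exists_ret B A (ULift.up (Additive.ofMul (𝟙 A)))
    (fun T p => (p.down.toMul : T ⟶ A))
    (fun T p => ULift.ext _ _ (congrArg Additive.ofMul (Category.comp_id (p.down.toMul : T ⟶ A))))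
    (fun T f => Category.comp_id f) i
  have hxi : xi R (g := g) (cokernel.condition i) = 0 := hC _
  haveI : Mono i.hom := (sheafToPresheaf _ _).map_mono i
  have hi : ∀ T : Over S, Function.Injective (i.hom.app (op T)) := fun T =>
    (AddCommGrpCat.mono_iff_injective _).1 inferInstance
  refine isTrivial_of_psec_loc (fun T p => exists_psec_loc R _ hi (fun U a ha => ?_) hxi T p) h₁
  have he := ((hsc.exact.map_of_mono_of_preservesKernel (sheafToPresheaf _ _) hsc.mono_f
    inferInstance).map_of_mono_of_preservesKernel ((evaluation (Over S)ᵒᵖ AddCommGrpCat.{u + 1}).obj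
      (op U)) ((sheafToPresheaf _ _).map_mono i) inferInstance)
  exact (ShortComplex.ab_exact_iff _).mp he a ha

end Groth.Agent.BiextSplitLib
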