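import Groth.Agent.BiextSplitLib.Ret
import Groth.Prelude.Def_CGrpSh2
import Mathlib.CategoryTheory.Sites.EpiMono
import Mathlib.CategoryTheory.Sites.Abelian
import Mathlib.Algebra.Category.Grp.Abelian

/-!
# The map to the first Ext sheaf attached to a biextension, and partial splittings
-/

set_option autoImplicit false
set_option linter.style.haveILetI false
set_option backward.isDefEq.respectTransparency false
set_option backward.isDefEq.respectTransparency.types false

universe u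

open CategoryTheory CategoryTheory.Limits Opposite

noncomputable section

namespace Groth.Agent.BiextSplitLib

open BiextDivLib

variable {C : Type (u + 1)} [Category.{u} C] {J : GrothendieckTopology C}
variable {P Q G I K : Sheaf J AddCommGrpCat.{u + 1}}

/-- A section of `E → P × Q` above one section of `P`, additive in the second variable. -/
structure PSec (B : Biext J P Q G) (T : C) where
  p : P.obj.obj (op T)
  s : ∀ U : C, (U ⟶ T) → Q.obj.obj (op U) → B.E.obj.obj (op U)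
  πP_s : ∀ U f q, B.πP U (s U f q) = P.obj.map f.op p
  πQ_s : ∀ U f q, B.πQ U (s U f q) = q
  s_map : ∀ {U V : C} (g : V ⟶ U) (f : U ⟶ T) q, B.E.obj.map g.op (s U f q) = s V (g ≫ f) (Q.obj.map g.op q)
  s_add : ∀ U f q q', s U f (q + q') = B.add₂ U (s U f q) (s U f q') ((πP_s U f q).trans (πP_s U f q').symm)

theorem neg_ext {A : Type (u + 1)} [AddCommGroup A] (a b c d : A) (h : a = b) (h' : c = d) : a - c = b - d := by
  rw [h, h']

variable {B : Biext J P Q G} {i : G ⟶ I} {g : I ⟶ K}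

theorem comp_zero_app (hw : i ≫ g = 0) (T : C) (x : G.obj.obj (op T)) : g.hom.app (op T) (i.hom.app (op T) x) = 0 :=
  congrArg (fun t : G ⟶ K => t.hom.app (op T) x) hw

variable (R : Ret B i)

theorem exists_psi (hw : i ≫ g = 0) (T : C) (p : P.obj.obj (op T)) (q : Q.obj.obj (op T)) :
    ∃ k : K.obj.obj (op T), ∀ ⦃U : C⦄ (f : U ⟶ T) (e : B.E.obj.obj (op U)),
      B.πP U e = P.obj.map f.op p → B.πQ U e = Q.obj.map f.op q → K.obj.map f.op k = g.hom.app (op U) (R.Φ U e) := by
  obtain ⟨S, hS, hloc⟩ := B.locallySurjective T p q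
  let Pd : ∀ ⦃U : C⦄, (U ⟶ T) → K.obj.obj (op U) → Prop := fun U f k => ∃ e : B.E.obj.obj (op U),
    B.πP U e = P.obj.map f.op p ∧ B.πQ U e = Q.obj.map f.op q ∧ k = g.hom.app (op U) (R.Φ U e)
  have hu : ∀ ⦃U : C⦄ (f : U ⟶ T) x y, Pd f x → Pd f y → x = y := by
    rintro U f x y ⟨e, hp, hq, rfl⟩ ⟨e', hp', hq', rfl⟩
    obtain ⟨k, hk, -⟩ := B.existsUnique_act U e e' (hp.trans hp'.symm) (hq.trans hq'.symm)
    rw [← hk, R.Φ_act, map_add, comp_zero_app hw, zero_add]
  obtain ⟨k, hk⟩ := aexists_glue K T Pd (fun U V f m x ⟨e, hp, hq, hx⟩ => ⟨B.E.obj.map m.op e,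
      by rw [B.πP_map, hp, amap_map], by rw [B.πQ_map, hq, amap_map],
      by rw [hx, ← R.Φ_map]; exact (NatTrans.naturality_apply g.hom m.op _).symm⟩) hu hS
    (fun U f hf => by
      obtain ⟨e, hp, hq⟩ := hloc f hf
      exact ⟨_, e, hp, hq, rfl⟩)
  exact ⟨k, fun U f e hp hq => hk f _ ⟨e, hp, hq, rfl⟩⟩

variable (hw : i ≫ g = 0)

/-- The class of the extension above `p`, evaluated at `q`. -/
def psi (T : C) (p : P.obj.obj (op T)) (q : Q.obj.obj (op T)) : K.obj.obj (op T) := (exists_psi R hw T p q).choose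

theorem psi_spec (T : C) (p : P.obj.obj (op T)) (q : Q.obj.obj (op T)) ⦃U : C⦄ (f : U ⟶ T)
    (e : B.E.obj.obj (op U)) (hp : B.πP U e = P.obj.map f.op p) (hq : B.πQ U e = Q.obj.map f.op q) :
    K.obj.map f.op (psi R hw T p q) = g.hom.app (op U) (R.Φ U e) :=
  (exists_psi R hw T p q).choose_spec f e hp hq

theorem psi_map {T U : C} (f : U ⟶ T) (p : P.obj.obj (op T)) (q : Q.obj.obj (op T)) :
    K.obj.map f.op (psi R hw T p q) = psi R hw U (P.obj.map f.op p) (Q.obj.map f.op q) := by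
  obtain ⟨S, hS, hloc⟩ := B.locallySurjective U (P.obj.map f.op p) (Q.obj.map f.op q)
  refine aext_loc K hS fun V m hm => ?_
  obtain ⟨e, hp, hq⟩ := hloc m hm
  rw [amap_map, psi_spec R hw T p q (m ≫ f) e (by rw [hp, amap_map]) (by rw [hq, amap_map]),
    psi_spec R hw U _ _ m e hp hq]

theorem psi_add_right (T : C) (p : P.obj.obj (op T)) (q q' : Q.obj.obj (op T)) :
    psi R hw T p (q + q') = psi R hw T p q + psi R hw T p q' := by
  obtain ⟨S, hS, hloc⟩ := B.locallySurjective T p q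
  obtain ⟨S', hS', hloc'⟩ := B.locallySurjective T p q'
  refine aext_loc K (J.intersection_covering hS hS') fun V m hm => ?_
  obtain ⟨e, hp, hq⟩ := hloc m hm.1
  obtain ⟨e', hp', hq'⟩ := hloc' m hm.2
  rw [map_add, psi_spec R hw T p q m e hp hq, psi_spec R hw T p q' m e' hp' hq',
    psi_spec R hw T p (q + q') m (B.add₂ V e e' (hp.trans hp'.symm)) (by rw [B.πP_add₂, hp])
      (by rw [B.πQ_add₂, hq, hq', map_add]), R.Φ_add₂, map_add]

/-- The class of the extension above `p`. -/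
def psiHom (T : C) (p : P.obj.obj (op T)) : Q.over T ⟶ K.over T :=
  ⟨{ app := fun W => AddCommGrpCat.ofHom (AddMonoidHom.mk'
      (fun q => psi R hw W.unop.left (P.obj.map W.unop.hom.op p) q) (fun q q' => psi_add_right R hw _ _ q q'))
     naturality := fun W W' k => AddCommGrpCat.ext fun q => by
      show psi R hw W'.unop.left (P.obj.map W'.unop.hom.op p) (Q.obj.map k.unop.left.op q) =
        K.obj.map k.unop.left.op (psi R hw W.unop.left (P.obj.map W.unop.hom.op p) q)
      rw [psi_map, amap_map, Over.w] }⟩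

omit [Category.{u} C] in
theorem regroup {A : Type (u + 1)} [AddCommGroup A] (d a b c : A) (h : d = c - a - b) : c = d + (a + b) := by
  rw [h]; abel

theorem exists_delta (R : Ret B i) (T : C) (p p' : P.obj.obj (op T)) (q : Q.obj.obj (op T)) :
    ∃ d : I.obj.obj (op T), ∀ ⦃U : C⦄ (f : U ⟶ T) (x z : B.E.obj.obj (op U)) (h : B.πQ U x = B.πQ U z),
      B.πP U x = P.obj.map f.op p → B.πP U z = P.obj.map f.op p' → B.πQ U x = Q.obj.map f.op q →
        I.obj.map f.op d = R.Φ U (B.add₁ U x z h) - R.Φ U x - R.Φ U z := by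
  obtain ⟨S, hS, hloc⟩ := B.locallySurjective T p q
  obtain ⟨S', hS', hloc'⟩ := B.locallySurjective T p' q
  let Pd : ∀ ⦃U : C⦄, (U ⟶ T) → I.obj.obj (op U) → Prop := fun U f d =>
    ∃ (x z : B.E.obj.obj (op U)) (h : B.πQ U x = B.πQ U z),
      B.πP U x = P.obj.map f.op p ∧ B.πP U z = P.obj.map f.op p' ∧ B.πQ U x = Q.obj.map f.op q ∧
        d = R.Φ U (B.add₁ U x z h) - R.Φ U x - R.Φ U z
  have hu : ∀ ⦃U : C⦄ (f : U ⟶ T) a b, Pd f a → Pd f b → a = b := by
    rintro U f _ _ ⟨x, z, h, hx, hz, hq, rfl⟩ ⟨x', z', h', hx', hz', hq', rfl⟩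
    obtain ⟨a, ha, -⟩ := B.existsUnique_act U x x' (hx.trans hx'.symm) (hq.trans hq'.symm)
    obtain ⟨b, hb, -⟩ := B.existsUnique_act U z z' (hz.trans hz'.symm) (h.symm.trans (hq.trans (hq'.symm.trans h')))
    subst ha hb
    rw [act_left₁ B U a x (B.act U b z) h', act_right₁ B U b x z ((B.πQ_act U a x).symm.trans h'),
      ← B.add_act, R.Φ_act, R.Φ_act, R.Φ_act, map_add]
    abel
  obtain ⟨d, hd⟩ := aexists_glue I T Pd (fun U V f m a ⟨x, z, h, hx, hz, hq, ha⟩ =>
      ⟨B.E.obj.map m.op x, B.E.obj.map m.op z, by rw [B.πQ_map, B.πQ_map, h], by rw [B.πP_map, hx, amap_map],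
        by rw [B.πP_map, hz, amap_map], by rw [B.πQ_map, hq, amap_map],
        by rw [ha, map_sub, map_sub, R.Φ_map, R.Φ_map, R.Φ_map, B.add₁_map]⟩) hu
    (J.intersection_covering hS hS') (fun U f hf => by
      obtain ⟨x, hx, hq⟩ := hloc f hf.1
      obtain ⟨z, hz, hq'⟩ := hloc' f hf.2
      exact ⟨_, x, z, hq.trans hq'.symm, hx, hz, hq, rfl⟩)
  exact ⟨d, fun U f x z h hx hz hq => hd f _ ⟨x, z, h, hx, hz, hq, rfl⟩⟩

/-- The failure of the retraction to be additive in the first variable. -/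
def delta (R : Ret B i) (T : C) (p p' : P.obj.obj (op T)) (q : Q.obj.obj (op T)) : I.obj.obj (op T) :=
  (exists_delta R T p p' q).choose

theorem delta_spec (T : C) (p p' : P.obj.obj (op T)) (q : Q.obj.obj (op T)) ⦃U : C⦄ (f : U ⟶ T)
    (x z : B.E.obj.obj (op U)) (h : B.πQ U x = B.πQ U z) (hx : B.πP U x = P.obj.map f.op p)
    (hz : B.πP U z = P.obj.map f.op p') (hq : B.πQ U x = Q.obj.map f.op q) :
    I.obj.map f.op (delta R T p p' q) = R.Φ U (B.add₁ U x z h) - R.Φ U x - R.Φ U z :=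
  (exists_delta R T p p' q).choose_spec f x z h hx hz hq

theorem delta_map {T U : C} (f : U ⟶ T) (p p' : P.obj.obj (op T)) (q : Q.obj.obj (op T)) :
    I.obj.map f.op (delta R T p p' q) = delta R U (P.obj.map f.op p) (P.obj.map f.op p') (Q.obj.map f.op q) := by
  obtain ⟨S, hS, hloc⟩ := B.locallySurjective U (P.obj.map f.op p) (Q.obj.map f.op q)
  obtain ⟨S', hS', hloc'⟩ := B.locallySurjective U (P.obj.map f.op p') (Q.obj.map f.op q)
  refine aext_loc I (J.intersection_covering hS hS') fun V m hm => ?_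
  obtain ⟨x, hx, hq⟩ := hloc m hm.1
  obtain ⟨z, hz, hq'⟩ := hloc' m hm.2
  rw [amap_map, delta_spec R T p p' q (m ≫ f) x z (hq.trans hq'.symm) (by rw [hx, amap_map])
    (by rw [hz, amap_map]) (by rw [hq, amap_map]), delta_spec R U _ _ _ m x z (hq.trans hq'.symm) hx hz hq]

theorem delta_add_right (T : C) (p p' : P.obj.obj (op T)) (q q' : Q.obj.obj (op T)) :
    delta R T p p' (q + q') = delta R T p p' q + delta R T p p' q' := by
  obtain ⟨S₁, hS₁, hl₁⟩ := B.locallySurjective T p q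
  obtain ⟨S₂, hS₂, hl₂⟩ := B.locallySurjective T p' q
  obtain ⟨S₃, hS₃, hl₃⟩ := B.locallySurjective T p q'
  obtain ⟨S₄, hS₄, hl₄⟩ := B.locallySurjective T p' q'
  refine aext_loc I (J.intersection_covering (J.intersection_covering hS₁ hS₂)
    (J.intersection_covering hS₃ hS₄)) fun V m hm => ?_
  obtain ⟨x, hx, hxq⟩ := hl₁ m hm.1.1
  obtain ⟨z, hz, hzq⟩ := hl₂ m hm.1.2
  obtain ⟨y, hy, hyq⟩ := hl₃ m hm.2.1
  obtain ⟨t, ht, htq⟩ := hl₄ m hm.2.2
  rw [map_add, delta_spec R T p p' q m x z (hxq.trans hzq.symm) hx hz hxq,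
    delta_spec R T p p' q' m y t (hyq.trans htq.symm) hy ht hyq,
    delta_spec R T p p' (q + q') m (B.add₂ V x y (hx.trans hy.symm)) (B.add₂ V z t (hz.trans ht.symm))
      (by rw [B.πQ_add₂, B.πQ_add₂, hxq, hzq, hyq, htq]) (by rw [B.πP_add₂, hx]) (by rw [B.πP_add₂, hz])
      (by rw [B.πQ_add₂, hxq, hyq, map_add]), B.compat V x y z t (hx.trans hy.symm) (hz.trans ht.symm)
      (hxq.trans hzq.symm) (hyq.trans htq.symm), R.Φ_add₂, R.Φ_add₂, R.Φ_add₂]
  abel

/-- The failure of additivity, as a homomorphism in the second variable. -/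
def deltaHom (R : Ret B i) (T : C) (p p' : P.obj.obj (op T)) : Q.over T ⟶ I.over T :=
  ⟨{ app := fun W => AddCommGrpCat.ofHom (AddMonoidHom.mk'
      (fun q => delta R W.unop.left (P.obj.map W.unop.hom.op p) (P.obj.map W.unop.hom.op p') q)
      (fun q q' => delta_add_right R _ _ _ q q'))
     naturality := fun W W' k => AddCommGrpCat.ext fun q => by
      show delta R W'.unop.left (P.obj.map W'.unop.hom.op p) (P.obj.map W'.unop.hom.op p')
          (Q.obj.map k.unop.left.op q) =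
        I.obj.map k.unop.left.op (delta R W.unop.left (P.obj.map W.unop.hom.op p) (P.obj.map W.unop.hom.op p') q)
      rw [delta_map, amap_map, amap_map, Over.w] }⟩

theorem psi_add_left (T : C) (p p' : P.obj.obj (op T)) (q : Q.obj.obj (op T)) :
    psi R hw T (p + p') q = g.hom.app (op T) (delta R T p p' q) + (psi R hw T p q + psi R hw T p' q) := by
  obtain ⟨S, hS, hloc⟩ := B.locallySurjective T p q
  obtain ⟨S', hS', hloc'⟩ := B.locallySurjective T p' q
  refine aext_loc K (J.intersection_covering hS hS') fun V m hm => ?_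
  obtain ⟨x, hx, hq⟩ := hloc m hm.1
  obtain ⟨z, hz, hq'⟩ := hloc' m hm.2
  rw [map_add, map_add, psi_spec R hw T p q m x hx hq, psi_spec R hw T p' q m z hz hq',
    psi_spec R hw T (p + p') q m (B.add₁ V x z (hq.trans hq'.symm)) (by rw [B.πP_add₁, hx, hz, map_add])
      (by rw [B.πQ_add₁, hq]), ← NatTrans.naturality_apply g.hom m.op,
    delta_spec R T p p' q m x z (hq.trans hq'.symm) hx hz hq, map_sub, map_sub]
  abel

variable [HasSheafify J AddCommGrpCat.{u + 1}]

/-- The map to the cokernel of `𝓗om(Q, I) → 𝓗om(Q, K)`. -/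
def xi : P ⟶ cokernel (HomSh.homShMap J (𝟙 Q) g) :=
  ⟨{ app := fun T => AddCommGrpCat.ofHom (AddMonoidHom.mk'
      (fun p => (cokernel.π (HomSh.homShMap J (𝟙 Q) g)).hom.app T (psiHom R hw T.unop p)) (fun p p' => by
        have hsplit : psiHom R hw T.unop (p + p') =
            (HomSh.homShMap J (𝟙 Q) g).hom.app T (deltaHom R T.unop p p') +
              (show (HomSh.homSh J Q K).obj.obj T from psiHom R hw T.unop p + psiHom R hw T.unop p') := by
          refine Sheaf.hom_ext (NatTrans.ext (funext fun W => AddCommGrpCat.ext fun q => ?_))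
          show psi R hw W.unop.left (P.obj.map W.unop.hom.op (p + p')) q =
            g.hom.app (op W.unop.left) (delta R W.unop.left (P.obj.map W.unop.hom.op p) (P.obj.map W.unop.hom.op p') q) +
              (psi R hw W.unop.left (P.obj.map W.unop.hom.op p) q + psi R hw W.unop.left (P.obj.map W.unop.hom.op p') q)
          rw [map_add, psi_add_left]
        have hz : (cokernel.π (HomSh.homShMap J (𝟙 Q) g)).hom.app T
            ((HomSh.homShMap J (𝟙 Q) g).hom.app T (deltaHom R T.unop p p')) = 0 :=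
          congrArg (fun t : HomSh.homSh J Q I ⟶ cokernel (HomSh.homShMap J (𝟙 Q) g) =>
            t.hom.app T (deltaHom R T.unop p p')) (cokernel.condition _)
        rw [hsplit, map_add, hz, zero_add, map_add]))
     naturality := fun T T' f => AddCommGrpCat.ext fun p => by
      show (cokernel.π (HomSh.homShMap J (𝟙 Q) g)).hom.app T' (psiHom R hw T'.unop (P.obj.map f p)) =
        (cokernel (HomSh.homShMap J (𝟙 Q) g)).obj.map f
          ((cokernel.π (HomSh.homShMap J (𝟙 Q) g)).hom.app T (psiHom R hw T.unop p))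
      rw [← NatTrans.naturality_apply]
      refine congrArg _ (Sheaf.hom_ext (NatTrans.ext (funext fun W => AddCommGrpCat.ext fun q => ?_)))
      show psi R hw W.unop.left (P.obj.map W.unop.hom.op (P.obj.map f p)) q =
        psi R hw W.unop.left (P.obj.map (W.unop.hom ≫ f.unop).op p) q
      rw [show P.obj.map f p = P.obj.map f.unop.op p from rfl, amap_map] }⟩

/-- Partial splittings exist locally when the map to the cokernel vanishes. -/
theorem exists_psec_loc (hi : ∀ T, Function.Injective (i.hom.app (op T)))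
    (hker : ∀ (T : C) (a : I.obj.obj (op T)), g.hom.app (op T) a = 0 → ∃ b, i.hom.app (op T) b = a)
    (hxi : xi R hw = 0) (T : C) (p : P.obj.obj (op T)) :
    ∃ S ∈ J T, ∀ ⦃U : C⦄ (f : U ⟶ T), S f → ∃ s : PSec B U, s.p = P.obj.map f.op p := by
  let c := HomSh.homShMap J (𝟙 Q) g
  let sc : ShortComplex (Sheaf J AddCommGrpCat.{u + 1}) := ShortComplex.mk c (cokernel.π c) (cokernel.condition c)
  have hex : sc.Exact := ShortComplex.exact_cokernel c
  haveI : Epi (kernel.lift sc.g sc.f sc.zero) := (ShortComplex.exact_iff_epi_kernel_lift sc).1 hex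
  haveI : Presheaf.IsLocallySurjective J (kernel.lift sc.g sc.f sc.zero).hom :=
    (Sheaf.isLocallySurjective_iff_epi' (A := AddCommGrpCat.{u + 1}) (J := J) (kernel.lift sc.g sc.f sc.zero)).2
      inferInstance
  let Φ : Sheaf J AddCommGrpCat.{u + 1} ⥤ AddCommGrpCat.{u + 1} :=
    sheafToPresheaf _ _ ⋙ (evaluation _ _).obj (op T)
  haveI : PreservesFiniteLimits Φ := inferInstance
  haveI : Φ.PreservesZeroMorphisms := inferInstance
  let k : ShortComplex (Sheaf J AddCommGrpCat.{u + 1}) := ShortComplex.mk (kernel.ι sc.g) sc.g (kernel.condition _)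
  haveI : Mono k.f := inferInstanceAs (Mono (kernel.ι sc.g))
  have hk' := (ShortComplex.exact_of_f_is_kernel k (kernelIsKernel sc.g)).map_of_mono_of_preservesKernel Φ
    inferInstance inferInstance
  rw [ShortComplex.ab_exact_iff] at hk'
  obtain ⟨y, hy⟩ := hk' (psiHom R hw T p) (congrArg (fun t : P ⟶ cokernel c => t.hom.app (op T) p) hxi)
  refine ⟨Presheaf.imageSieve (kernel.lift sc.g sc.f sc.zero).hom (U := T) y,
    Presheaf.imageSieve_mem J (kernel.lift sc.g sc.f sc.zero).hom (U := op T) y, fun U f ⟨z, hz⟩ => ?_⟩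
  have h1 := congrArg ((kernel.ι sc.g).hom.app (op U)) hz
  have h2 : c.hom.app (op U) z = (HomSh.homSh J Q K).obj.map f.op (psiHom R hw T p) := by
    refine Eq.trans ?_ (h1.trans ((NatTrans.naturality_apply (kernel.ι sc.g).hom f.op y).trans
      (congrArg ((HomSh.homSh J Q K).obj.map f.op) hy)))
    exact (congrArg (fun t : HomSh.homSh J Q I ⟶ HomSh.homSh J Q K => t.hom.app (op U) z)
      (kernel.lift_ι sc.g sc.f sc.zero)).symm
  let χ : Q.over U ⟶ I.over U := z
  let ev : ∀ W : C, (W ⟶ U) → Q.obj.obj (op W) → I.obj.obj (op W) := fun W m q => χ.hom.app (op (Over.mk m)) q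
  have ev_g : ∀ (W : C) (m : W ⟶ U) q, g.hom.app (op W) (ev W m q) =
      psi R hw W (P.obj.map m.op (P.obj.map f.op p)) q := fun W m q => by
    refine Eq.trans ?_ ((congrArg (fun t : Q.over U ⟶ K.over U => t.hom.app (op (Over.mk m)) q) h2).trans ?_)
    · rfl
    · show psi R hw W (P.obj.map (m ≫ f).op p) q = _
      rw [amap_map]
  have ev_map : ∀ {W V : C} (n : V ⟶ W) (m : W ⟶ U) q,
      I.obj.map n.op (ev W m q) = ev V (n ≫ m) (Q.obj.map n.op q) := fun {W V} n m q =>
    (NatTrans.naturality_apply χ.hom (Over.homMk n : Over.mk (n ≫ m) ⟶ Over.mk m).op q).symm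
  have ev_add : ∀ (W : C) (m : W ⟶ U) q q', ev W m (q + q') = ev W m q + ev W m q' := fun W m q q' =>
    map_add (χ.hom.app (op (Over.mk m))).hom q q'
  have huniq : ∀ (W : C) (e e' : B.E.obj.obj (op W)), B.πP W e = B.πP W e' → B.πQ W e = B.πQ W e' →
      R.Φ W e = R.Φ W e' → e = e' := by
    intro W e e' hp hq hΦ
    obtain ⟨a, ha, -⟩ := B.existsUnique_act W e e' hp hq
    rw [← ha, R.Φ_act] at hΦ
    have : a = 0 := hi W (by rw [map_zero]; simpa using hΦ.symm)
    rw [← ha, this, B.zero_act]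
  have hσ : ∀ (W : C) (m : W ⟶ U) (q : Q.obj.obj (op W)), ∃ e : B.E.obj.obj (op W),
      B.πP W e = P.obj.map m.op (P.obj.map f.op p) ∧ B.πQ W e = q ∧ R.Φ W e = ev W m q := by
    intro W m q
    obtain ⟨S, hS, hloc⟩ := B.locallySurjective W (P.obj.map m.op (P.obj.map f.op p)) q
    let Pd : ∀ ⦃V : C⦄, (V ⟶ W) → B.E.obj.obj (op V) → Prop := fun V n e =>
      B.πP V e = P.obj.map n.op (P.obj.map m.op (P.obj.map f.op p)) ∧ B.πQ V e = Q.obj.map n.op q ∧
        R.Φ V e = I.obj.map n.op (ev W m q)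
    have hl : ∀ ⦃V : C⦄ (n : V ⟶ W), S n → ∃ e, Pd n e := by
      intro V n hn
      obtain ⟨e, hp, hq⟩ := hloc n hn
      obtain ⟨b, hb⟩ := hker V (I.obj.map n.op (ev W m q) - R.Φ V e) (by
        rw [map_sub, NatTrans.naturality_apply, ev_g, psi_spec R hw W _ q n e hp hq, sub_self])
      refine ⟨B.act V b e, (B.πP_act V b e).trans hp, (B.πQ_act V b e).trans hq, ?_⟩
      rw [R.Φ_act, hb, sub_add_cancel]
    obtain ⟨e, he⟩ := exists_glue B.E W Pd
      (fun V V' n n' x ⟨h1, h2, h3⟩ => ⟨by rw [B.πP_map, h1, amap_map], by rw [B.πQ_map, h2, amap_map],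
        by rw [← R.Φ_map, h3, amap_map]⟩)
      (fun V n x y hx hy => huniq V x y (hx.1.trans hy.1.symm) (hx.2.1.trans hy.2.1.symm) (hx.2.2.trans hy.2.2.symm))
      hS hl
    refine ⟨e, aext_loc P hS fun V n hn => ?_, aext_loc Q hS fun V n hn => ?_, aext_loc I hS fun V n hn => ?_⟩
    all_goals obtain ⟨y, hy⟩ := hl n hn
    · rw [← B.πP_map, he n y hy, hy.1]
    · rw [← B.πQ_map, he n y hy, hy.2.1]
    · rw [R.Φ_map, he n y hy, hy.2.2]
  choose σ hσP hσQ hσΦ using hσ
  refine ⟨⟨P.obj.map f.op p, σ, hσP, hσQ, ?_, ?_⟩, rfl⟩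
  · intro W V n m q
    refine huniq V _ _ ?_ ?_ ?_
    · rw [B.πP_map, hσP, hσP, amap_map]
    · rw [B.πQ_map, hσQ, hσQ]
    · rw [← R.Φ_map, hσΦ, hσΦ, ev_map]
  · intro W m q q'
    refine huniq W _ _ ?_ ?_ ?_
    · rw [B.πP_add₂, hσP, hσP]
    · rw [B.πQ_add₂, hσQ, hσQ, hσQ]
    · rw [R.Φ_add₂, hσΦ, hσΦ, hσΦ, ev_add]

end Groth.Agent.BiextSplitLib
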