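import Groth.Agent.BiextSplitLib.Basic
import Groth.Agent.GaBidualLib.OverInj

/-!
# Retractions of a biextension, linear in one variable
-/

set_option autoImplicit false
set_option linter.style.haveILetI false
set_option backward.isDefEq.respectTransparency false
set_option backward.isDefEq.respectTransparency.types false

universe u

open CategoryTheory CategoryTheory.Limits Opposite

noncomputable section

namespace Groth.Agent.BiextSplitLib

open BiextDivLib

variable {C : Type (u + 1)} [Category.{u} C] {J : GrothendieckTopology C}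
variable {P Q G I : Sheaf J AddCommGrpCat.{u + 1}}

/-- A natural map `E → I` over `i : G → I`, additive for the second law. -/
structure Ret (B : Biext J P Q G) (i : G ⟶ I) where
  Φ : ∀ T : C, B.E.obj.obj (op T) → I.obj.obj (op T)
  Φ_map : ∀ {T U : C} (f : U ⟶ T) (e : B.E.obj.obj (op T)), I.obj.map f.op (Φ T e) = Φ U (B.E.obj.map f.op e)
  Φ_act : ∀ (T : C) (g : G.obj.obj (op T)) (e : B.E.obj.obj (op T)), Φ T (B.act T g e) = i.hom.app (op T) g + Φ T e
  Φ_add₂ : ∀ (T : C) (x y : B.E.obj.obj (op T)) (h : B.πP T x = B.πP T y),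
    Φ T (B.add₂ T x y h) = Φ T x + Φ T y

/-- The presheaf of fibre groups above the universal section of `Q`. -/
def fibPre (B : Biext J P Q G) (T₀ : C) (q₀ : Q.obj.obj (op T₀)) : (Over T₀)ᵒᵖ ⥤ AddCommGrpCat.{u + 1} where
  obj U := AddCommGrpCat.of (Fib₁ B U.unop.left (Q.obj.map U.unop.hom.op q₀))
  map {U V} k := AddCommGrpCat.ofHom (fibMap B k.unop.left _ _ (by rw [amap_map, Over.w]))
  map_id U := AddCommGrpCat.ext fun x => Subtype.ext (map_id_app B.E.obj x.1)
  map_comp k k' := AddCommGrpCat.ext fun x => Subtype.ext (map_map B.E.obj _ _ x.1).symm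

variable [HasSheafify J AddCommGrpCat.{u + 1}]

/-- Retractions exist into injective sheaves when the second sheaf is represented. -/
theorem exists_ret₁ (B : Biext J P Q G) (T₀ : C) [HasSheafify (J.over T₀) AddCommGrpCat.{u + 1}]
    (q₀ : Q.obj.obj (op T₀)) (rep : ∀ T : C, Q.obj.obj (op T) → (T ⟶ T₀))
    (map_rep : ∀ T q, Q.obj.map (rep T q).op q₀ = q) (rep_map' : ∀ T (f : T ⟶ T₀), rep T (Q.obj.map f.op q₀) = f)
    (i : G ⟶ I) [Mono i] [Injective I] :
    ∃ Φ : ∀ T : C, B.E.obj.obj (op T) → I.obj.obj (op T),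
      (∀ {T U : C} (f : U ⟶ T) (e : B.E.obj.obj (op T)), I.obj.map f.op (Φ T e) = Φ U (B.E.obj.map f.op e)) ∧
      (∀ (T : C) (g : G.obj.obj (op T)) (e : B.E.obj.obj (op T)),
        Φ T (B.act T g e) = i.hom.app (op T) g + Φ T e) ∧
      ∀ (T : C) (x y : B.E.obj.obj (op T)) (h : B.πQ T x = B.πQ T y),
        Φ T (B.add₁ T x y h) = Φ T x + Φ T y := by
  let O := J.overPullback AddCommGrpCat.{u + 1} T₀
  let inc : (O.obj G).obj ⟶ fibPre B T₀ q₀ :=
    { app := fun U => AddCommGrpCat.ofHom (fibInc B U.unop.left (Q.obj.map U.unop.hom.op q₀))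
      naturality := fun U V k => AddCommGrpCat.ext fun g => Subtype.ext (by
        show B.act V.unop.left (G.obj.map k.unop.left.op g) (zero₁ B V.unop.left (Q.obj.map V.unop.hom.op q₀)) =
          B.E.obj.map k.unop.left.op (B.act U.unop.left g (zero₁ B U.unop.left (Q.obj.map U.unop.hom.op q₀)))
        rw [B.act_map, zero₁_map, amap_map, Over.w]) }
  haveI : ∀ U, Mono (inc.app U) := fun U => (AddCommGrpCat.mono_iff_injective _).2 (fibInc_injective B _ _)
  haveI : Mono inc := NatTrans.mono_of_mono_app _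
  haveI := GaBidualLib.OverInj.injective_over T₀ I
  haveI : Injective (O.obj I).obj :=
    (Injective.injective_of_adjoint (sheafificationAdjunction (J.over T₀) AddCommGrpCat.{u + 1}) (O.obj I) :)
  let l : fibPre B T₀ q₀ ⟶ (O.obj I).obj := Injective.factorThru (O.map i).hom inc
  have hl : inc ≫ l = (O.map i).hom := Injective.comp_factorThru _ _
  let Φ : ∀ T : C, B.E.obj.obj (op T) → I.obj.obj (op T) := fun T e =>
    l.app (op (Over.mk (rep T (B.πQ T e)))) ⟨e, (map_rep T _).symm⟩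
  have Φ_eq : ∀ (T : C) (f : T ⟶ T₀) (e : B.E.obj.obj (op T)) (h : B.πQ T e = Q.obj.map f.op q₀),
      l.app (op (Over.mk f)) ⟨e, h⟩ = Φ T e := by
    intro T f e h
    have hf : f = rep T (B.πQ T e) := by rw [h, rep_map']
    subst hf
    rfl
  refine ⟨Φ, ?_, ?_, ?_⟩
  · intro T U f e
    have hn := ConcreteCategory.congr_hom (l.naturality
      (Over.homMk f : Over.mk (f ≫ rep T (B.πQ T e)) ⟶ Over.mk (rep T (B.πQ T e))).op) ⟨e, (map_rep T _).symm⟩
    refine hn.symm.trans ?_
    exact Φ_eq U (f ≫ rep T (B.πQ T e)) _ _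
  · intro T g e
    let A : (Over T₀)ᵒᵖ := op (Over.mk (rep T (B.πQ T e)))
    let x : Fib₁ B T (Q.obj.map (rep T (B.πQ T e)).op q₀) := ⟨e, (map_rep T _).symm⟩
    refine (Φ_eq T (rep T (B.πQ T e)) _ ((B.πQ_act T g e).trans (map_rep T _).symm)).symm.trans ?_
    have h0 : (⟨B.act T g e, (B.πQ_act T g e).trans (map_rep T _).symm⟩ :
        Fib₁ B T (Q.obj.map (rep T (B.πQ T e)).op q₀)) = fibInc B T _ g + x := Subtype.ext (fibInc_add B T _ g x).symm
    refine (congrArg (l.app A) h0).trans ((map_add (l.app A).hom _ _).trans ?_)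
    exact congrArg₂ (· + ·) (ConcreteCategory.congr_hom (congrArg (fun t => t.app A) hl) g) rfl
  · intro T x y h
    let A : (Over T₀)ᵒᵖ := op (Over.mk (rep T (B.πQ T x)))
    let x' : Fib₁ B T (Q.obj.map (rep T (B.πQ T x)).op q₀) := ⟨x, (map_rep T _).symm⟩
    let y' : Fib₁ B T (Q.obj.map (rep T (B.πQ T x)).op q₀) := ⟨y, h.symm.trans (map_rep T _).symm⟩
    refine (Φ_eq T (rep T (B.πQ T x)) _ ((B.πQ_add₁ T x y h).trans (map_rep T _).symm)).symm.trans ?_
    refine (map_add (l.app A).hom x' y').trans ?_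
    exact congrArg₂ (· + ·) rfl (Φ_eq T (rep T (B.πQ T x)) y _)

/-- Retractions exist when the first sheaf is represented. -/
theorem exists_ret (B : Biext J P Q G) (T₀ : C) [HasSheafify (J.over T₀) AddCommGrpCat.{u + 1}]
    (p₀ : P.obj.obj (op T₀)) (rep : ∀ T : C, P.obj.obj (op T) → (T ⟶ T₀))
    (map_rep : ∀ T p, P.obj.map (rep T p).op p₀ = p) (rep_map' : ∀ T (f : T ⟶ T₀), rep T (P.obj.map f.op p₀) = f)
    (i : G ⟶ I) [Mono i] [Injective I] : Nonempty (Ret B i) := by
  obtain ⟨Φ, h1, h2, h3⟩ := exists_ret₁ (swap B) T₀ p₀ rep map_rep rep_map' i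
  exact ⟨⟨Φ, h1, h2, h3⟩⟩

end Groth.Agent.BiextSplitLib
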