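import Groth.Agent.BiextSplitLib.Psi
import Mathlib.Algebra.Homology.DerivedCategory.Ext.ExactSequences

/-!
# The sheaf of partial splittings
-/

set_option autoImplicit false
set_option linter.style.haveILetI false
set_option backward.isDefEq.respectTransparency false
set_option backward.isDefEq.respectTransparency.types false

universe u

open CategoryTheory CategoryTheory.Limits Opposite

noncomputable section

namespace Groth.Agent.BiextSplitLib

open BiextDivLib

variable {C : Type (u + 1)} [Category.{u} C] {J : GrothendieckTopology C}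
variable {P Q G : Sheaf J AddCommGrpCat.{u + 1}} {B : Biext J P Q G}

theorem PSec.ext' {T : C} {a b : PSec B T} (hp : a.p = b.p) (hs : ∀ U f q, a.s U f q = b.s U f q) : a = b := by
  obtain ⟨p, s, _, _, _, _⟩ := a
  obtain ⟨p', s', _, _, _, _⟩ := b
  subst hp
  obtain rfl : s = s' := funext fun U => funext fun f => funext fun q => hs U f q
  rfl

theorem PSec.s_congr {T U : C} (a : PSec B T) {f f' : U ⟶ T} (h : f = f') {q q' : Q.obj.obj (op U)} (hq : q = q') :
    a.s U f q = a.s U f' q' := by subst h hq; rfl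

instance (T : C) : Add (PSec B T) :=
  ⟨fun a b =>
    { p := a.p + b.p
      s := fun U f q => B.add₁ U (a.s U f q) (b.s U f q) ((a.πQ_s U f q).trans (b.πQ_s U f q).symm)
      πP_s := fun U f q => by rw [B.πP_add₁, a.πP_s, b.πP_s, map_add]
      πQ_s := fun U f q => by rw [B.πQ_add₁, a.πQ_s]
      s_map := fun g f q => by
        rw [B.add₁_map]
        exact BiextDivLib.add₁_congr B (a.s_map g f q) (b.s_map g f q) _
      s_add := fun U f q q' =>
        (BiextDivLib.add₁_congr B (a.s_add U f q q') (b.s_add U f q q') _).trans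
          (B.compat U _ _ _ _ ((a.πP_s U f q).trans (a.πP_s U f q').symm) ((b.πP_s U f q).trans (b.πP_s U f q').symm)
            ((a.πQ_s U f q).trans (b.πQ_s U f q).symm) ((a.πQ_s U f q').trans (b.πQ_s U f q').symm)) }⟩

instance (T : C) : Zero (PSec B T) :=
  ⟨{ p := 0
     s := fun U _ q => zero₁ B U q
     πP_s := fun U f q => by rw [πP_zero₁, map_zero]
     πQ_s := fun U f q => πQ_zero₁ B U q
     s_map := fun g f q => zero₁_map B g q
     s_add := fun U f q q' => (zero₁_add₂ B U q q' _).symm }⟩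

theorem add_eq_zero₁_map {T U : C} (f : U ⟶ T) {q : Q.obj.obj (op T)} {x y : B.E.obj.obj (op T)}
    {h : B.πQ T x = B.πQ T y} (hxy : B.add₁ T x y h = zero₁ B T q) :
    B.add₁ U (B.E.obj.map f.op x) (B.E.obj.map f.op y) (by rw [B.πQ_map, B.πQ_map, h]) =
      zero₁ B U (Q.obj.map f.op q) := by
  rw [← B.add₁_map f x y h, hxy, zero₁_map]

instance (T : C) : Neg (PSec B T) :=
  ⟨fun a =>
    { p := -a.p
      s := fun U f q => (exists_neg B U (a.s U f q)).choose
      πP_s := fun U f q => by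
        obtain ⟨h, hy⟩ := (exists_neg B U (a.s U f q)).choose_spec
        have := congrArg (B.πP U) hy
        rw [B.πP_add₁, πP_zero₁, a.πP_s] at this
        rw [map_neg]
        exact eq_neg_of_add_eq_zero_right this
      πQ_s := fun U f q => (exists_neg B U (a.s U f q)).choose_spec.fst.symm.trans (a.πQ_s U f q)
      s_map := fun {U V} g f q => by
        obtain ⟨h, hy⟩ := (exists_neg B U (a.s U f q)).choose_spec
        obtain ⟨h', hy'⟩ := (exists_neg B V (a.s V (g ≫ f) (Q.obj.map g.op q))).choose_spec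
        refine neg_unique B (q := Q.obj.map g.op q) (a.πQ_s V (g ≫ f) _) (by rw [B.πQ_map, ← h, a.πQ_s])
          (h'.symm.trans (a.πQ_s V (g ≫ f) _)) ?_ (hy'.trans (congrArg (zero₁ B V) (a.πQ_s V (g ≫ f) _)))
        refine (BiextDivLib.add₁_congr B (a.s_map g f q).symm rfl _).trans ?_
        exact (add_eq_zero₁_map g hy).trans (by rw [a.πQ_s])
      s_add := fun U f q q' => by
        obtain ⟨h, hy⟩ := (exists_neg B U (a.s U f q)).choose_spec
        obtain ⟨h', hy'⟩ := (exists_neg B U (a.s U f q')).choose_spec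
        obtain ⟨h'', hy''⟩ := (exists_neg B U (a.s U f (q + q'))).choose_spec
        have hP : B.πP U (exists_neg B U (a.s U f q)).choose = B.πP U (exists_neg B U (a.s U f q')).choose := by
          have e := congrArg (B.πP U) hy
          have e' := congrArg (B.πP U) hy'
          rw [B.πP_add₁, πP_zero₁, a.πP_s] at e e'
          exact add_left_cancel (e.trans e'.symm)
        refine neg_unique B (q := q + q') (a.πQ_s U f _) (h''.symm.trans (a.πQ_s U f _))
          (by rw [B.πQ_add₂, ← h, ← h', a.πQ_s, a.πQ_s]) (hy''.trans (congrArg (zero₁ B U) (a.πQ_s U f _))) ?_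
        refine (BiextDivLib.add₁_congr B (a.s_add U f q q') rfl _).trans ?_
        refine (B.compat U _ _ _ _ ((a.πP_s U f q).trans (a.πP_s U f q').symm) hP h h').trans ?_
        refine (BiextDivLib.add₂_congr B (hy.trans (congrArg (zero₁ B U) (a.πQ_s U f q)))
          (hy'.trans (congrArg (zero₁ B U) (a.πQ_s U f q'))) _).trans (zero₁_add₂ B U q q' _) }⟩

instance instAddCommGroupPSec (T : C) : AddCommGroup (PSec B T) where
  add_assoc a b c := PSec.ext' (add_assoc a.p b.p c.p) fun U f q => B.add₁_assoc U _ _ _ _ _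
  zero_add a := PSec.ext' (zero_add a.p) fun U f q => (B.add₁_comm U _ _ _).trans (add₁_zero₁ B U _ q _)
  add_zero a := PSec.ext' (add_zero a.p) fun U f q => add₁_zero₁ B U _ q _
  add_comm a b := PSec.ext' (add_comm a.p b.p) fun U f q => B.add₁_comm U _ _ _
  nsmul := nsmulRec
  zsmul := zsmulRec
  neg_add_cancel a := PSec.ext' (neg_add_cancel a.p) fun U f q =>
    (B.add₁_comm U _ _ _).trans ((exists_neg B U (a.s U f q)).choose_spec.snd.trans
      (congrArg (zero₁ B U) (a.πQ_s U f q)))

/-- Restriction of partial splittings. -/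
def PSec.res {T U : C} (f : U ⟶ T) (a : PSec B T) : PSec B U where
  p := P.obj.map f.op a.p
  s V g q := a.s V (g ≫ f) q
  πP_s V g q := by rw [a.πP_s, amap_map]
  πQ_s V g q := a.πQ_s V _ q
  s_map {V W} h g q := (a.s_map h (g ≫ f) q).trans (a.s_congr (Category.assoc h g f).symm rfl)
  s_add V g q q' := a.s_add V _ q q'

variable (B) in
/-- The presheaf of partial splittings. -/
def splPre : Cᵒᵖ ⥤ AddCommGrpCat.{u + 1} where
  obj T := AddCommGrpCat.of (PSec B T.unop)
  map {T U} f := AddCommGrpCat.ofHom (AddMonoidHom.mk' (fun a : PSec B T.unop => a.res f.unop) fun a b =>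
    PSec.ext' (map_add (P.obj.map f.unop.op).hom a.p b.p) fun V g q => rfl)
  map_id T := AddCommGrpCat.ext fun (a : PSec B T.unop) =>
    PSec.ext' (amap_id_app P.obj a.p) fun V g q => a.s_congr (Category.comp_id g) rfl
  map_comp {T U V} f g := AddCommGrpCat.ext fun (a : PSec B T.unop) =>
    PSec.ext' (amap_map P.obj f.unop g.unop a.p).symm fun W h q => a.s_congr (Category.assoc h g.unop f.unop).symm rfl

theorem isSheaf_splPre : Presheaf.IsSheaf J (splPre B) := by
  apply Presheaf.isSheaf_of_isSheaf_comp J (splPre B) (forget AddCommGrpCat.{u + 1})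
  rw [isSheaf_iff_isSheaf_of_type]
  intro T R hR fam hfam
  have hc : ∀ ⦃Y₁ Y₂ Z : C⦄ (g₁ : Z ⟶ Y₁) (g₂ : Z ⟶ Y₂) (f₁ : Y₁ ⟶ T) (f₂ : Y₂ ⟶ T) (h₁ : R f₁) (h₂ : R f₂),
      g₁ ≫ f₁ = g₂ ≫ f₂ → (fam f₁ h₁ : PSec B Y₁).res g₁ = (fam f₂ h₂ : PSec B Y₂).res g₂ :=
    fun Y₁ Y₂ Z g₁ g₂ f₁ f₂ h₁ h₂ h => hfam g₁ g₂ h₁ h₂ h
  -- the first variable
  obtain ⟨p, hp⟩ := aexists_glue P T (fun U f x => ∃ hf : R f, x = (fam f hf : PSec B U).p)
    (fun U V f g x ⟨hf, hx⟩ => ⟨R.downward_closed hf g, by
      rw [hx]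
      refine (congrArg PSec.p (hc g (𝟙 V) f (g ≫ f) hf (R.downward_closed hf g) (by simp))).trans ?_
      exact amap_id_app P.obj _⟩)
    (fun U f x y ⟨_, hx⟩ ⟨_, hy⟩ => hx.trans hy.symm) hR (fun U f hf => ⟨_, hf, rfl⟩)
  have hp' : ∀ ⦃U : C⦄ (f : U ⟶ T) (hf : R f), P.obj.map f.op p = (fam f hf : PSec B U).p :=
    fun U f hf => hp f _ ⟨hf, rfl⟩
  have hsres : ∀ ⦃U V : C⦄ (f : U ⟶ T) (hf : R f) (g : V ⟶ U) (hgf : R (g ≫ f)) (W : C) (h : W ⟶ V)
      (q : Q.obj.obj (op W)), (fam (g ≫ f) hgf : PSec B V).s W h q = (fam f hf : PSec B U).s W (h ≫ g) q := by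
    intro U V f hf g hgf W h q
    have e := congrArg (fun a : PSec B V => a.s W h q) (hc g (𝟙 V) f (g ≫ f) hf hgf (by simp))
    exact ((PSec.s_congr _ (Category.comp_id h).symm rfl).trans e.symm)
  have hfs : ∀ ⦃U : C⦄ {f f' : U ⟶ T} (hf : R f) (hf' : R f') (_ : f = f') (W : C) (h : W ⟶ U)
      (q : Q.obj.obj (op W)), (fam f hf : PSec B U).s W h q = (fam f' hf' : PSec B U).s W h q := by
    intro U f f' hf hf' e W h q
    subst e
    rfl
  -- the section
  have hex : ∀ (U : C) (f : U ⟶ T) (q : Q.obj.obj (op U)), ∃ e : B.E.obj.obj (op U),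
      ∀ ⦃V : C⦄ (g : V ⟶ U) (hg : R (g ≫ f)),
        B.E.obj.map g.op e = (fam (g ≫ f) hg : PSec B V).s V (𝟙 V) (Q.obj.map g.op q) := by
    intro U f q
    obtain ⟨e, he⟩ := exists_glue B.E U
      (fun V g x => ∃ hg : R (g ≫ f), x = (fam (g ≫ f) hg : PSec B V).s V (𝟙 V) (Q.obj.map g.op q))
      (fun V W g h x ⟨hg, hx⟩ => by
        have hhg : R ((h ≫ g) ≫ f) := by rw [Category.assoc]; exact R.downward_closed hg h
        refine ⟨hhg, ?_⟩
        rw [hx, PSec.s_map, amap_map, hfs hhg (R.downward_closed hg h) (Category.assoc h g f),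
          hsres (g ≫ f) hg h (R.downward_closed hg h)]
        exact PSec.s_congr _ (by simp) rfl)
      (fun V g x y ⟨_, hx⟩ ⟨_, hy⟩ => hx.trans hy.symm) (J.pullback_stable f hR)
      (fun V g hg => ⟨_, hg, rfl⟩)
    exact ⟨e, fun V g hg => he g _ ⟨hg, rfl⟩⟩
  choose s hs using hex
  have hsR : ∀ (U : C) (f : U ⟶ T) (q : Q.obj.obj (op U)) ⦃V : C⦄ (g : V ⟶ U), R (g ≫ f) →
      B.πP V (B.E.obj.map g.op (s U f q)) = P.obj.map g.op (P.obj.map f.op p) ∧
        B.πQ V (B.E.obj.map g.op (s U f q)) = Q.obj.map g.op q := by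
    intro U f q V g hg
    rw [hs U f q g hg, PSec.πP_s, PSec.πQ_s, amap_id_app, amap_map, hp' _ hg]
    exact ⟨rfl, rfl⟩
  let a : PSec B T :=
    { p := p
      s := s
      πP_s := fun U f q => aext_loc P (J.pullback_stable f hR) fun V g hg => by rw [← B.πP_map, (hsR U f q g hg).1]
      πQ_s := fun U f q => aext_loc Q (J.pullback_stable f hR) fun V g hg => by rw [← B.πQ_map, (hsR U f q g hg).2]
      s_map := fun {U V} g f q => ext_loc B.E (J.pullback_stable (g ≫ f) hR) fun W h hh => by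
        have hh' : R ((h ≫ g) ≫ f) := by rw [Category.assoc]; exact hh
        rw [map_map, hs U f q (h ≫ g) hh', hs V (g ≫ f) _ h hh, amap_map,
          hfs hh' hh (Category.assoc h g f)]
      s_add := fun U f q q' => ext_loc B.E (J.pullback_stable f hR) fun V g hg => by
        rw [B.add₂_map, hs U f (q + q') g hg, map_add, PSec.s_add]
        exact BiextDivLib.add₂_congr B (hs U f q g hg).symm (hs U f q' g hg).symm _ }
  refine ⟨a, fun U f hf => PSec.ext' (hp' f hf) fun V g q => ?_, fun b hb => ?_⟩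
  · show s V (g ≫ f) q = _
    refine (map_id_app B.E.obj _).symm.trans ?_
    rw [hs V (g ≫ f) q (𝟙 V) (by rw [Category.id_comp]; exact R.downward_closed hf g),
      hfs _ (R.downward_closed hf g) (Category.id_comp _), hsres f hf g (R.downward_closed hf g)]
    exact PSec.s_congr _ (by simp) (amap_id_app Q.obj q)
  · have hb' : ∀ ⦃U : C⦄ (f : U ⟶ T) (hf : R f), (b : PSec B T).res f = (fam f hf : PSec B U) :=
      fun U f hf => hb f hf
    refine PSec.ext' (aext_loc P hR fun U f hf => ?_) fun U f q =>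
      ext_loc B.E (J.pullback_stable f hR) fun V g hg => ?_
    · rw [hp' f hf]
      exact congrArg PSec.p (hb' f hf)
    · show B.E.obj.map g.op ((b : PSec B T).s U f q) = B.E.obj.map g.op (s U f q)
      rw [hs U f q g hg, PSec.s_map, ← hb' (g ≫ f) hg]
      exact PSec.s_congr _ (Category.id_comp _).symm rfl

variable (B) in
/-- The sheaf of partial splittings. -/
def spl : Sheaf J AddCommGrpCat.{u + 1} := ⟨splPre B, isSheaf_splPre⟩

variable (B) in
/-- The projection of partial splittings to `P`. -/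
def splProj : spl B ⟶ P :=
  ⟨{ app := fun T => AddCommGrpCat.ofHom (AddMonoidHom.mk' (fun a : PSec B T.unop => a.p) fun _ _ => rfl)
     naturality := fun _ _ _ => rfl }⟩

theorem app_congr {T U : C} (φ : Q.over T ⟶ G.over T) {f f' : U ⟶ T} (h : f = f') (q : Q.obj.obj (op U)) :
    φ.hom.app (op (Over.mk f)) q = φ.hom.app (op (Over.mk f')) q := by subst h; rfl

/-- The partial splitting above zero attached to a homomorphism. -/
def ofHom {T : C} (φ : Q.over T ⟶ G.over T) : PSec B T where
  p := 0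
  s U f q := B.act U (φ.hom.app (op (Over.mk f)) q) (zero₁ B U q)
  πP_s U f q := by rw [B.πP_act, πP_zero₁, map_zero]
  πQ_s U f q := by rw [B.πQ_act, πQ_zero₁]
  s_map {U V} g f q := by
    rw [B.act_map, zero₁_map]
    exact congrArg (fun t => B.act V t (zero₁ B V (Q.obj.map g.op q)))
      (NatTrans.naturality_apply φ.hom (Over.homMk g : Over.mk (g ≫ f) ⟶ Over.mk f).op q).symm
  s_add U f q q' := by
    have h : B.πP U (zero₁ B U q) = B.πP U (zero₁ B U q') := by rw [πP_zero₁, πP_zero₁]
    have e : φ.hom.app (op (Over.mk f)) (q + q') =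
        φ.hom.app (op (Over.mk f)) q + φ.hom.app (op (Over.mk f)) q' := map_add (φ.hom.app (op (Over.mk f))).hom q q'
    rw [act_left₂ B U _ _ _ ((B.πP_act U _ _).trans (h.trans (B.πP_act U _ _).symm)),
      act_right₂ B U _ _ _ (h.trans (B.πP_act U _ _).symm), zero₁_add₂, ← B.add_act, e]

variable (B) in
/-- Homomorphisms as partial splittings above zero. -/
def splInc : HomSh.homSh J Q G ⟶ spl B :=
  ⟨{ app := fun T => AddCommGrpCat.ofHom (AddMonoidHom.mk' (fun φ => (ofHom φ : PSec B T.unop)) fun φ ψ =>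
      PSec.ext' (add_zero 0).symm fun U f q => congrArg Subtype.val
        (map_add (fibInc B U q) ((φ : Q.over T.unop ⟶ G.over T.unop).hom.app (op (Over.mk f)) q)
          ((ψ : Q.over T.unop ⟶ G.over T.unop).hom.app (op (Over.mk f)) q)))
     naturality := fun T U m => AddCommGrpCat.ext fun φ =>
      PSec.ext' (map_zero (P.obj.map m.unop.op).hom).symm fun V g q => rfl }⟩

theorem splInc_splProj : splInc B ≫ splProj B = 0 :=
  Sheaf.hom_ext (NatTrans.ext (funext fun _ => AddCommGrpCat.ext fun _ => rfl))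

theorem eq_ofHom {T : C} (φ : Q.over T ⟶ G.over T) {U : C} (f : U ⟶ T) (q : Q.obj.obj (op U)) :
    (ofHom φ : PSec B T).s U f q = B.act U (φ.hom.app (op (Over.mk f)) q) (zero₁ B U q) := rfl

variable [HasSheafify J AddCommGrpCat.{u + 1}]

theorem shortExact_spl
    (hloc : ∀ (T : C) (p : P.obj.obj (op T)),
      ∃ S ∈ J T, ∀ ⦃U : C⦄ (f : U ⟶ T), S f → ∃ s : PSec B U, s.p = P.obj.map f.op p) :
    (ShortComplex.mk (splInc B) (splProj B) splInc_splProj).ShortExact := by
  have hinj : ∀ T : Cᵒᵖ, Function.Injective ((splInc B).hom.app T) := fun T φ ψ h => by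
    refine Sheaf.hom_ext (NatTrans.ext (funext fun W => AddCommGrpCat.ext fun q => ?_))
    have h' := congrArg (fun a : PSec B T.unop => a.s W.unop.left W.unop.hom q) h
    exact (B.existsUnique_act _ _ _ (B.πP_act _ _ _).symm (B.πQ_act _ _ _).symm).unique h' rfl
  haveI : Mono (splInc B) := (sheafToPresheaf _ _).mono_of_mono_map
    ((NatTrans.mono_iff_mono_app _).2 fun T => (AddCommGrpCat.mono_iff_injective _).2 (hinj T))
  haveI : Sheaf.IsLocallySurjective (splProj B) := ⟨fun {T} p => by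
    obtain ⟨S, hS, h⟩ := hloc T p
    refine J.superset_covering ?_ hS
    intro U f hf
    obtain ⟨s, hs⟩ := h f hf
    exact ⟨s, hs⟩⟩
  haveI : Epi (splProj B) :=
    (Sheaf.isLocallySurjective_iff_epi' AddCommGrpCat.{u + 1} (splProj B)).1 inferInstance
  refine ShortComplex.ShortExact.mk' (ShortComplex.exact_of_f_is_kernel _ (KernelFork.IsLimit.ofι' _ _ fun {Z} m hm => ?_))
    ‹Mono (splInc B)› ‹Epi (splProj B)›
  have hlift : ∀ (T : Cᵒᵖ) (z : Z.obj.obj T), ∃ φ, (splInc B).hom.app T φ = m.hom.app T z := by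
    intro T z
    set a : PSec B T.unop := m.hom.app T z with ha
    have hp : a.p = 0 := congrArg (fun t : Z ⟶ P => t.hom.app T z) hm
    have hk : ∀ (U : C) (f : U ⟶ T.unop) (q : Q.obj.obj (op U)),
        ∃! k, B.act U k (zero₁ B U q) = a.s U f q := fun U f q =>
      B.existsUnique_act U _ _ (by rw [πP_zero₁, a.πP_s, hp, map_zero]) (by rw [πQ_zero₁, a.πQ_s])
    choose k hk hku using hk
    have kadd : ∀ U f q q', k U f (q + q') = k U f q + k U f q' := fun U f q q' => by
      refine (hku U f (q + q') _ ?_).symm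
      show B.act U (k U f q + k U f q') (zero₁ B U (q + q')) = a.s U f (q + q')
      have h : B.πP U (zero₁ B U q) = B.πP U (zero₁ B U q') := by rw [πP_zero₁, πP_zero₁]
      rw [a.s_add, BiextDivLib.add₂_congr B (hk U f q).symm (hk U f q').symm,
        act_left₂ B U _ _ _ ((B.πP_act U _ _).trans (h.trans (B.πP_act U _ _).symm)),
        act_right₂ B U _ _ _ (h.trans (B.πP_act U _ _).symm), zero₁_add₂, ← B.add_act]
    refine ⟨⟨{ app := fun W => AddCommGrpCat.ofHom (AddMonoidHom.mk' (fun q => k W.unop.left W.unop.hom q)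
                  (kadd W.unop.left W.unop.hom))
               naturality := fun W W' n => AddCommGrpCat.ext fun q => ?_ }⟩, ?_⟩
    · show k W'.unop.left W'.unop.hom (Q.obj.map n.unop.left.op q) =
        G.obj.map n.unop.left.op (k W.unop.left W.unop.hom q)
      refine (hku _ _ _ _ ?_).symm
      show B.act W'.unop.left _ (zero₁ B W'.unop.left (Q.obj.map n.unop.left.op q)) = a.s _ _ _
      rw [← zero₁_map, ← B.act_map, hk, a.s_map]
      exact a.s_congr (Over.w n.unop) rfl
    · exact PSec.ext' hp.symm fun U f q => hk U f q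
  choose y hy using hlift
  have hadd : ∀ T z z', y T (z + z') = y T z + y T z' := fun T z z' => hinj T
    (((hy T (z + z')).trans (map_add (m.hom.app T).hom z z')).trans
      ((congrArg₂ (· + ·) (hy T z) (hy T z')).symm.trans (map_add ((splInc B).hom.app T).hom _ _).symm))
  refine ⟨⟨{ app := fun T => AddCommGrpCat.ofHom (AddMonoidHom.mk' (fun z => y T z) (hadd T))
             naturality := fun T T' n => AddCommGrpCat.ext fun z => hinj T' ?_ }⟩, ?_⟩
  · refine (hy T' (Z.obj.map n z)).trans ?_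
    refine (NatTrans.naturality_apply m.hom n z).trans ?_
    refine Eq.trans ?_ (NatTrans.naturality_apply (splInc B).hom n (y T z)).symm
    exact congrArg ((spl B).obj.map n) (hy T z).symm
  · exact Sheaf.hom_ext (NatTrans.ext (funext fun T => AddCommGrpCat.ext fun z => hy T z))

/-- A biextension with local partial splittings is trivial when extensions by `𝓗om(Q, G)` split. -/
theorem isTrivial_of_psec_loc [HasExt.{u + 1} (Sheaf J AddCommGrpCat.{u + 1})]
    (hloc : ∀ (T : C) (p : P.obj.obj (op T)),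
      ∃ S ∈ J T, ∀ ⦃U : C⦄ (f : U ⟶ T), S f → ∃ s : PSec B U, s.p = P.obj.map f.op p)
    (hext : ∀ e : Abelian.Ext P (HomSh.homSh J Q G) 1, e = 0) : Biext.IsTrivial J B := by
  have hS := shortExact_spl hloc
  obtain ⟨x₂, hx₂⟩ := Abelian.Ext.covariant_sequence_exact₃ (P : Sheaf J AddCommGrpCat.{u + 1}) hS
    (Abelian.Ext.mk₀ (𝟙 P)) rfl (hext _)
  obtain ⟨sec, rfl⟩ := (Abelian.Ext.homEquiv₀ (X := P) (Y := spl B)).symm.surjective x₂
  have hsec : sec ≫ splProj B = 𝟙 P := by
    apply (Abelian.Ext.homEquiv₀ (X := P) (Y := P)).symm.injective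
    refine Eq.trans ?_ hx₂
    exact (Abelian.Ext.mk₀_comp_mk₀ sec (splProj B)).symm
  have hp : ∀ (T : C) (p : P.obj.obj (op T)), (sec.hom.app (op T) p : PSec B T).p = p := fun T p =>
    congrArg (fun t : P ⟶ P => t.hom.app (op T) p) hsec
  refine ⟨{
    σ := fun T p q => (sec.hom.app (op T) p : PSec B T).s T (𝟙 T) q
    πP_σ := fun T p q => by rw [PSec.πP_s, amap_id_app, hp]
    πQ_σ := fun T p q => PSec.πQ_s _ T _ q
    σ_map := fun {T U} f p q => ?_
    σ_add₁ := fun T p p' q => ?_
    σ_add₂ := fun T p q q' => PSec.s_add _ T _ q q' }⟩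
  · rw [PSec.s_map]
    have e : (sec.hom.app (op U) (P.obj.map f.op p) : PSec B U) = (sec.hom.app (op T) p : PSec B T).res f :=
      NatTrans.naturality_apply sec.hom f.op p
    rw [e]
    exact PSec.s_congr _ (by simp) rfl
  · exact congrArg (fun a : PSec B T => a.s T (𝟙 T) q) (map_add (sec.hom.app (op T)).hom p p')

end Groth.Agent.BiextSplitLib
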